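import Cfsg.Agent.H56.J4.Up.Base

/-!
Transversals for the trio stabiliser.
-/

set_option autoImplicit false
set_option maxRecDepth 100000

namespace Cfsg.Agent.H56.J4.Up

/-- products -/
def lPs : List (ℕ × ℕ) := [
  (0, 1), (1, 0), (1, 1), (2, 0), (2, 1), (3, 1), (4, 0), (6, 0),
  (6, 1), (8, 1), (9, 1), (10, 0), (11, 0), (5, 5), (4, 13), (14, 14),
  (17, 14), (18, 14), (19, 14), (20, 14), (21, 14), (22, 14), (23, 14), (24, 14),
  (25, 14), (26, 14), (27, 14), (16, 28), (0, 1), (1, 0), (30, 1), (31, 1),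
  (32, 0), (34, 1), (12, 34), (35, 35), (37, 35), (38, 35), (39, 35), (40, 35),
  (41, 35), (42, 35), (43, 35), (44, 35), (45, 35), (46, 35), (47, 35), (36, 48),
  (0, 29), (50, 0), (50, 1), (52, 33), (53, 51), (54, 54), (55, 54), (56, 49),
  (0, 49), (32, 15), (58, 58), (60, 58), (61, 58), (62, 58), (59, 63), (49, 64),
  (54, 64), (66, 64), (1, 0), (68, 1), (57, 7), (69, 69), (71, 69), (72, 69),
  (73, 69), (74, 69), (75, 69), (76, 69), (77, 69), (78, 69), (79, 69), (70, 80),
  (67, 67), (82, 67), (83, 67), (84, 67), (85, 67), (86, 67), (87, 67), (88, 67),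
  (89, 67), (90, 67), (91, 67), (92, 67), (81, 93), (65, 65), (95, 65), (94, 96),
  (97, 97), (49, 97), (54, 54), (54, 49), (101, 101), (102, 101), (103, 101), (104, 101),
  (105, 101), (106, 1), (1, 1), (108, 1), (107, 109), (100, 100), (111, 100), (112, 100),
  (113, 100), (114, 100), (110, 115), (99, 99), (117, 99), (118, 99), (119, 99), (120, 99),
  (116, 121), (98, 98), (123, 98), (124, 98), (125, 98), (126, 98), (122, 127), (128, 128),
  (97, 97), (97, 128), (130, 97), (131, 97), (133, 97), (49, 64), (49, 97), (64, 49),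
  (64, 64), (64, 128), (29, 54), (29, 49), (29, 64), (29, 97), (54, 54), (54, 49),
  (54, 64), (54, 97), (54, 128), (141, 29), (143, 29), (144, 54), (145, 128), (0, 1),
  (0, 29), (0, 49), (0, 64), (0, 97), (1, 1), (1, 54), (1, 64), (1, 97),
  (153, 0), (153, 1), (153, 29), (153, 64), (154, 1), (155, 0), (155, 1), (155, 29),
  (156, 54), (157, 1), (157, 29), (159, 49)]

/-- levels -/
def lLev : List (ℕ × List ℕ) := [
  (0, [174, 0, 1, 153, 154, 155, 156, 157, 158, 159, 160, 161, 162, 163, 164, 165, 166, 167, 168, 169, 170, 171, 172, 173]),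
  (2, [174, 29, 54, 140, 141, 142, 143, 144, 145, 146, 147, 148, 149, 150, 151, 152]),
  (3, [174, 49, 64, 135, 136, 137, 138, 139]),
  (1, [174, 97, 130, 131, 132, 133, 134]),
  (4, [174, 128, 129])]

theorem low_ok : genLow [xT, wT] lPs lLev 64512 = true := by decide +kernel

end Cfsg.Agent.H56.J4.Up
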